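import Groth.Agent.CylLib.Alg
import Groth.Agent.GaGm.Kernel
import Groth.Agent.SpreadOutFP.Birational
import Groth.Prelude.Def_AlgGrp
import Mathlib.AlgebraicGeometry.FunctionField
import Mathlib.AlgebraicGeometry.Morphisms.Separated

/-!
# The coaction on the function field of an action of a one-dimensional split group
-/

set_option autoImplicit false
set_option backward.isDefEq.respectTransparency.types false

universe u

open CategoryTheory MonoidalCategory CartesianMonoidalCategory MonObj GrpObj AlgebraicGeometry Limits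
open Groth.Agent.GaGm (sc specK fnB toP toP_appTop hom_ext_specK fnB_algebraMap appTop_sc fnB_bijective)

noncomputable section

namespace Groth.Agent.CylLib

variable {K : Type u} [Field K]

/-! ### Points with values in algebras -/

section Sp

variable {A B C : Type u} [CommRing A] [Algebra K A] [CommRing B] [Algebra K B] [CommRing C] [Algebra K C]

/-- The morphism of an algebra map. -/
def sp (φ : A →ₐ[K] B) : specK (K := K) B ⟶ specK A :=
  Over.homMk (Spec.map (CommRingCat.ofHom φ.toRingHom)) (by
    show Spec.map (CommRingCat.ofHom φ.toRingHom) ≫ Spec.map _ = Spec.map _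
    rw [← Spec.map_comp]
    exact congrArg Spec.map (CommRingCat.hom_ext φ.comp_algebraMap))

lemma sp_comp (φ : A →ₐ[K] B) (ψ : B →ₐ[K] C) : sp ψ ≫ sp φ = sp (ψ.comp φ) := by
  ext1
  exact (Spec.map_comp _ _).symm

lemma sp_id : sp (AlgHom.id K A) = 𝟙 _ := by
  ext1
  exact Spec.map_id _

lemma sp_injective {φ ψ : A →ₐ[K] B} (h : sp φ = sp ψ) : φ = ψ := by
  have h' := Spec.map_injective (congrArg (fun f => f.left) h)
  exact AlgHom.coe_ringHom_injective (congrArg CommRingCat.Hom.hom h')

lemma sp_appTop (φ : A →ₐ[K] B) (x : A) : (sp φ).left.appTop (fnB (K := K) A x) = fnB (K := K) B (φ x) :=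
  (congr($(Scheme.ΓSpecIso_inv_naturality (CommRingCat.ofHom φ.toRingHom)) x)).symm

end Sp

/-! ### Coordinates -/

/-- The operation. -/
def op (m : Bool) {R : Type u} [CommRing R] (a b : R) : R := bif m then a * b else a + b

/-- The unit. -/
def one' (m : Bool) (R : Type u) [CommRing R] : R := bif m then 1 else 0

/-- The exponent of the coordinate which is inverted. -/
def ex (m : Bool) : ℕ := bif m then 1 else 0

lemma map_op (m : Bool) {R R' : Type u} [CommRing R] [CommRing R'] (φ : R →+* R') (a b : R) :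
    φ (op m a b) = op m (φ a) (φ b) := by cases m <;> simp [op]

lemma map_one' (m : Bool) {R R' : Type u} [CommRing R] [CommRing R'] (φ : R →+* R') :
    φ (one' m R) = one' m R' := by cases m <;> simp [one']

lemma one'_unit (m : Bool) (R : Type u) [CommRing R] : IsUnit (one' m R ^ ex m) := by
  cases m <;> simp [one', ex]

/-- A coordinate on a group. -/
structure Coord (G : Over (Spec (CommRingCat.of K))) [GrpObj G] (m : Bool) where
  /-- The coordinate of a point. -/
  fn : ∀ {T : Over (Spec (CommRingCat.of K))}, (T ⟶ G) → Γ(T.left, ⊤)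
  fn_comp : ∀ {T T' : Over (Spec (CommRingCat.of K))} (h : T' ⟶ T) (g : T ⟶ G), fn (h ≫ g) = h.left.appTop (fn g)
  fn_inj : ∀ {T : Over (Spec (CommRingCat.of K))}, Function.Injective (fn (T := T))
  fn_unit : ∀ {T : Over (Spec (CommRingCat.of K))} (g : T ⟶ G), IsUnit (fn g ^ ex m)
  exists_fn : ∀ {T : Over (Spec (CommRingCat.of K))} {b : Γ(T.left, ⊤)}, IsUnit (b ^ ex m) → ∃ g : T ⟶ G, fn g = b
  fn_mul : ∀ {T : Over (Spec (CommRingCat.of K))} (g h : T ⟶ G), fn (g * h) = op m (fn g) (fn h)
  fn_one : ∀ {T : Over (Spec (CommRingCat.of K))}, fn (1 : T ⟶ G) = one' m _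

variable {G : Over (Spec (CommRingCat.of K))} [GrpObj G] {m : Bool} (cd : Coord G m)

section Pts

variable {A B : Type u} [CommRing A] [Algebra K A] [CommRing B] [Algebra K B]

/-- The point with given coordinate. -/
def Coord.pt (b : B) (hb : IsUnit (b ^ ex m)) : specK (K := K) B ⟶ G :=
  (cd.exists_fn (b := fnB (K := K) B b) (by rw [← map_pow]; exact hb.map _)).choose

lemma Coord.fn_pt (b : B) (hb : IsUnit (b ^ ex m)) : cd.fn (cd.pt b hb) = fnB (K := K) B b :=
  (cd.exists_fn (b := fnB (K := K) B b) (by rw [← map_pow]; exact hb.map _)).choose_spec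

lemma Coord.sp_pt (φ : A →ₐ[K] B) (b : A) (hb : IsUnit (b ^ ex m)) :
    sp φ ≫ cd.pt b hb = cd.pt (φ b) (by rw [← map_pow]; exact hb.map φ) :=
  cd.fn_inj (by rw [cd.fn_comp, cd.fn_pt, cd.fn_pt, sp_appTop])

lemma Coord.pt_congr {b b' : B} (h : b = b') (hb : IsUnit (b ^ ex m)) :
    cd.pt b hb = cd.pt b' (h ▸ hb) := by subst h; rfl

lemma Coord.pt_one {b : B} (h : b = one' m B) (hb : IsUnit (b ^ ex m)) : cd.pt b hb = 1 :=
  cd.fn_inj (by rw [cd.fn_pt, cd.fn_one, h, map_one'])

lemma Coord.pt_op (b b' : B) (hb : IsUnit (b ^ ex m)) (hb' : IsUnit (b' ^ ex m))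
    (hbb : IsUnit (op m b b' ^ ex m)) : cd.pt (op m b b') hbb = cd.pt b hb * cd.pt b' hb' :=
  cd.fn_inj (by rw [cd.fn_mul, cd.fn_pt, cd.fn_pt, cd.fn_pt, map_op])

end Pts

/-! ### The action on points -/

section Act

variable {X : Over (Spec (CommRingCat.of K))} (a : AlgGrp.Action G X)

/-- The action on points. -/
def act' {T : Over (Spec (CommRingCat.of K))} (g : T ⟶ G) (x : T ⟶ X) : T ⟶ X := lift g x ≫ a.act

lemma comp_act' {T T' : Over (Spec (CommRingCat.of K))} (h : T' ⟶ T) (g : T ⟶ G) (x : T ⟶ X) :
    h ≫ act' a g x = act' a (h ≫ g) (h ≫ x) := by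
  rw [act', act', comp_lift_assoc]

lemma act'_one {T : Over (Spec (CommRingCat.of K))} (x : T ⟶ X) : act' a 1 x = x := by
  rw [act', Hom.one_def]
  have : lift (toUnit T ≫ η[G]) x = lift (toUnit T) x ≫ (η[G] ▷ X) := by
    rw [lift_whiskerRight]
  rw [this, Category.assoc, a.one_act, lift_leftUnitor_hom]

lemma act'_mul {T : Over (Spec (CommRingCat.of K))} (g h : T ⟶ G) (x : T ⟶ X) : act' a (g * h) x = act' a g (act' a h x) := by
  rw [act', act', act', Hom.mul_def]
  have : lift (lift g h ≫ μ[G]) x = lift (lift g h) x ≫ (μ[G] ▷ X) := by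
    rw [lift_whiskerRight]
  rw [this, Category.assoc, a.mul_act, lift_lift_associator_hom_assoc, lift_whiskerLeft_assoc]

end Act

/-! ### The coaction -/

section Coaction

variable (F : Type u) [Field F] [Algebra K F]

/-- The prime of the unit. -/
def pc (m : Bool) : Ideal (Polynomial F) := RingHom.ker (Polynomial.evalRingHom (one' m F))

instance : (pc F m).IsPrime := RingHom.ker_isPrime _

/-- The local ring of the line at the unit. -/
abbrev Rl (m : Bool) : Type u := Localization.AtPrime (pc F m)

lemma eval_ne {y : (pc F m).primeCompl} : (y : Polynomial F).eval (one' m F) ≠ 0 := y.2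

/-- The inclusion of the local ring into the rational functions. -/
def incl (m : Bool) : Rl F m →ₐ[K] RatFunc F :=
  IsLocalization.liftAlgHom (M := (pc F m).primeCompl)
    (f := IsScalarTower.toAlgHom K (Polynomial F) (RatFunc F)) fun y =>
      (RatFunc.algebraMap_ne_zero (fun h => y.2 (by rw [h]; exact zero_mem _))).isUnit

/-- The residue map at the unit. -/
def res (m : Bool) : Rl F m →ₐ[K] F :=
  IsLocalization.liftAlgHom (M := (pc F m).primeCompl)
    (f := ((Polynomial.aeval (one' m F) : Polynomial F →ₐ[F] F).restrictScalars K)) fun y =>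
      (show (y : Polynomial F).eval (one' m F) ≠ 0 from y.2).isUnit

lemma incl_algebraMap (P : Polynomial F) :
    incl (K := K) F m (algebraMap _ _ P) = algebraMap (Polynomial F) (RatFunc F) P := by
  rw [incl]; exact IsLocalization.lift_eq _ P

lemma res_algebraMap (P : Polynomial F) : res (K := K) F m (algebraMap _ _ P) = P.eval (one' m F) := by
  rw [res]; exact (IsLocalization.lift_eq _ P).trans (Polynomial.coe_aeval_eq_eval (one' m F) ▸ rfl)

theorem incl_spec (r : Rl F m) :
    (incl (K := K) F m r).denom.eval (one' m F) ≠ 0 ∧ (incl (K := K) F m r).num.eval (one' m F) =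
      res (K := K) F m r * (incl (K := K) F m r).denom.eval (one' m F) := by
  obtain ⟨⟨A, B⟩, h⟩ := IsLocalization.surj (pc F m).primeCompl r
  let e : Polynomial F →+* F := Polynomial.evalRingHom (one' m F)
  have hB : e B ≠ 0 := B.2
  set f := incl (K := K) F m r with hf
  have h1 : f * algebraMap _ _ (B : Polynomial F) = algebraMap _ _ A := by
    have := congrArg (incl (K := K) F m) h
    rwa [map_mul, incl_algebraMap, incl_algebraMap] at this
  have h2 : res (K := K) F m r * e B = e A := by
    have := congrArg (res (K := K) F m) h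
    rwa [map_mul, res_algebraMap, res_algebraMap] at this
  have h3 : f.num * (B : Polynomial F) = A * f.denom := by
    apply RatFunc.algebraMap_injective F
    have hn := RatFunc.num_div_denom f
    rw [div_eq_iff (RatFunc.algebraMap_ne_zero (RatFunc.denom_ne_zero f))] at hn
    rw [map_mul, map_mul, hn, ← h1]
    ring
  have h4 : e f.num * e B = e A * e f.denom := by rw [← map_mul, ← map_mul, h3]
  have hd : e f.denom ≠ 0 := fun h0 => by
    rw [h0, mul_zero] at h4
    have := (RatFunc.isCoprime_num_denom f).map e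
    rw [(mul_eq_zero.1 h4).resolve_right hB, h0] at this
    exact not_isCoprime_zero_zero this
  refine ⟨hd, mul_right_cancel₀ hB ?_⟩
  show e f.num * e B = _
  rw [h4, ← h2]
  show _ = res (K := K) F m r * e f.denom * e B
  ring

lemma unit_t : IsUnit ((algebraMap (Polynomial F) (Rl F m) Polynomial.X) ^ ex m) := by
  cases m
  · simp [ex]
  · rw [ex, cond_true, pow_one]
    exact IsLocalization.map_units _ (⟨Polynomial.X, fun h => one_ne_zero (α := F)
      (by simpa [pc, one', RingHom.mem_ker] using h)⟩ : (pc F true).primeCompl)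

lemma res_closedPoint :
    Spec.map (CommRingCat.ofHom (res (K := K) F m).toRingHom) (IsLocalRing.closedPoint F) =
      IsLocalRing.closedPoint (Rl F m) := by
  have hs : Function.Surjective (res (K := K) F m).toRingHom := fun x =>
    ⟨algebraMap (Polynomial F) _ (Polynomial.C x), (res_algebraMap (K := K) F _).trans Polynomial.eval_C⟩
  haveI := IsLocalHom.of_surjective (res (K := K) F m).toRingHom hs
  exact IsLocalRing.comap_closedPoint (res (K := K) F m).toRingHom

theorem ratFunc_algebraMap (x : K) : algebraMap K (RatFunc F) x = RatFunc.C (algebraMap K F x) := by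
  rw [IsScalarTower.algebraMap_apply K (Polynomial F) (RatFunc F), IsScalarTower.algebraMap_apply K F (Polynomial F),
    Polynomial.algebraMap_eq, RatFunc.algebraMap_C]

theorem ratFunc_algebraMap₂ (x : K) :
    algebraMap K (RatFunc (RatFunc F)) x = RatFunc.C (RatFunc.C (algebraMap K F x)) := by
  rw [IsScalarTower.algebraMap_apply K (Polynomial (RatFunc F)) (RatFunc (RatFunc F)),
    IsScalarTower.algebraMap_apply K (RatFunc F) (Polynomial (RatFunc F)),
    Polynomial.algebraMap_eq, RatFunc.algebraMap_C, ratFunc_algebraMap]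

/-- The constants. -/
def cst : F →ₐ[K] RatFunc F := ⟨RatFunc.C, fun x => (ratFunc_algebraMap F x).symm⟩

/-- The constants, twice. -/
def cst₂ : RatFunc F →ₐ[K] RatFunc (RatFunc F) :=
  ⟨RatFunc.C, fun x => by rw [ratFunc_algebraMap₂, ← ratFunc_algebraMap]; rfl⟩

end Coaction

section Generic

variable {F : Type u} [Field F] [Algebra K F] {X : Over (Spec (CommRingCat.of K))} (a : AlgGrp.Action G X)

/-- A point with values in a field which behaves like the generic point. -/
structure GenPt (X : Over (Spec (CommRingCat.of K))) (xη : specK (K := K) F ⟶ X) : Prop where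
  mono : Mono xη.left
  factor : ∀ (R : Type u) [CommRing R] [IsLocalRing R] (ε : Spec (CommRingCat.of R) ⟶ X.left),
    ε (IsLocalRing.closedPoint R) = xη.left (IsLocalRing.closedPoint F) →
      ∃ β : F →+* R, Spec.map (CommRingCat.ofHom β) ≫ xη.left = ε

variable {xη : specK (K := K) F ⟶ X}

lemma GenPt.cancel (hx : GenPt X xη) {B : Type u} [CommRing B] [Algebra K B] {φ ψ : F →ₐ[K] B}
    (h : sp φ ≫ xη = sp ψ ≫ xη) : φ = ψ := by
  haveI := hx.mono
  refine sp_injective (Over.OverMorphism.ext ?_)
  exact (cancel_mono xη.left).1 (congrArg (fun f => f.left) h)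

include cd in
theorem exists_coaction (hx : GenPt X xη) :
    ∃ σ : F →ₐ[K] RatFunc F,
      (∀ f, (σ f).denom.eval (one' m F) ≠ 0 ∧ (σ f).num.eval (one' m F) = f * (σ f).denom.eval (one' m F)) ∧
      (∀ h, sp σ ≫ xη = act' a (cd.pt (RatFunc.X : RatFunc F) h) (sp (cst F) ≫ xη)) := by
  let t : Rl F m := algebraMap (Polynomial F) _ Polynomial.X
  have ht : IsUnit (t ^ ex m) := unit_t F
  let cR : F →ₐ[K] Rl F m := (IsScalarTower.toAlgHom K (Polynomial F) (Rl F m)).comp
    (IsScalarTower.toAlgHom K F (Polynomial F))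
  have hres : (res (K := K) F m).comp cR = AlgHom.id K F := AlgHom.ext fun x =>
    (res_algebraMap (K := K) F _).trans (by simp)
  have hrt : res (K := K) F m t = one' m F := (res_algebraMap (K := K) F _).trans Polynomial.eval_X
  let q : specK (K := K) (Rl F m) ⟶ X := act' a (cd.pt t ht) (sp cR ≫ xη)
  have hq0 : sp (res (K := K) F m) ≫ q = xη := by
    rw [comp_act', cd.sp_pt, cd.pt_one hrt, ← Category.assoc, sp_comp, hres, sp_id, Category.id_comp, act'_one]
  have hcl : q.left (IsLocalRing.closedPoint (Rl F m)) = xη.left (IsLocalRing.closedPoint F) := by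
    rw [← res_closedPoint (K := K) F]
    conv_rhs => rw [← hq0]
    rfl
  obtain ⟨β₀, hβ⟩ := hx.factor (Rl F m) q.left hcl
  let β : F →ₐ[K] Rl F m :=
    { β₀ with
      commutes' := fun x => by
        have h1 : Spec.map (CommRingCat.ofHom β₀) ≫ Spec.map (CommRingCat.ofHom (algebraMap K F)) =
            Spec.map (CommRingCat.ofHom (algebraMap K (Rl F m))) := by
          have e1 : xη.left ≫ X.hom = Spec.map (CommRingCat.ofHom (algebraMap K F)) := Over.w xη
          rw [← e1, ← Category.assoc, hβ]
          exact Over.w q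
        rw [← Spec.map_comp] at h1
        exact RingHom.congr_fun (congrArg CommRingCat.Hom.hom (Spec.map_injective h1)) x }
  have hβq : sp β ≫ xη = q := Over.OverMorphism.ext hβ
  have hβid : (res (K := K) F m).comp β = AlgHom.id K F := hx.cancel (by
    rw [← sp_comp, Category.assoc, hβq, hq0, sp_id, Category.id_comp])
  refine ⟨(incl (K := K) F m).comp β, fun f => ?_, fun h => ?_⟩
  · have h1 := incl_spec (K := K) F (β f)
    rw [show res (K := K) F m (β f) = f from AlgHom.congr_fun hβid f] at h1
    exact h1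
  · have hit : incl (K := K) F m t = RatFunc.X := (incl_algebraMap (K := K) F _).trans RatFunc.algebraMap_X
    have hic : (incl (K := K) F m).comp cR = cst F := AlgHom.ext fun x =>
      (incl_algebraMap (K := K) F _).trans (RatFunc.algebraMap_C x)
    rw [← sp_comp, Category.assoc, hβq, comp_act', cd.sp_pt, cd.pt_congr hit, ← Category.assoc, sp_comp, hic]

/-- The law. -/
def lawP (m : Bool) (F : Type u) [Field F] : Polynomial (RatFunc F) :=
  bif m then mulLaw else addLaw

lemma lawP_deg (m : Bool) : 0 < (lawP m F).natDegree := by cases m <;> [exact addLaw_deg; exact mulLaw_deg]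

lemma unit_X (E : Type u) [Field E] : IsUnit ((RatFunc.X : RatFunc E) ^ ex m) :=
  (pow_ne_zero _ RatFunc.X_ne_zero).isUnit

include cd a in
theorem assoc_of_spec (hx : GenPt X xη) (σ : F →ₐ[K] RatFunc F)
    (hσ : ∀ h, sp σ ≫ xη = act' a (cd.pt (RatFunc.X : RatFunc F) h) (sp (cst F) ≫ xη)) (f : F) :
    τ σ.toRingHom (σ f) = θ (lawP m F) (lawP_deg m) (σ f) := by
  let τA : RatFunc F →ₐ[K] RatFunc (RatFunc F) :=
    { τ σ.toRingHom with
      commutes' := fun x => by
        show τ σ.toRingHom (algebraMap K _ x) = _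
        rw [ratFunc_algebraMap, τ_C, ratFunc_algebraMap₂, ← ratFunc_algebraMap]
        exact congrArg RatFunc.C (σ.commutes x) }
  let θA : RatFunc F →ₐ[K] RatFunc (RatFunc F) :=
    { θ (lawP m F) (lawP_deg m) with
      commutes' := fun x => by
        show θ (lawP m F) (lawP_deg m) (algebraMap K _ x) = _
        rw [ratFunc_algebraMap, ← RatFunc.algebraMap_C, θ_algebraMap, sub_apply, Polynomial.map_C,
          Polynomial.C_comp, RatFunc.algebraMap_C, ratFunc_algebraMap₂] }
  have hτt : τA RatFunc.X = (RatFunc.X : RatFunc (RatFunc F)) := τ_X _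
  have hct : cst₂ (K := K) F (RatFunc.X : RatFunc F) = (RatFunc.C RatFunc.X : RatFunc (RatFunc F)) := rfl
  have hθt : θA RatFunc.X = op m (RatFunc.X : RatFunc (RatFunc F)) (RatFunc.C RatFunc.X) := by
    show θ (lawP m F) (lawP_deg m) RatFunc.X = _
    rw [← RatFunc.algebraMap_X, θ_algebraMap, sub_apply, Polynomial.map_X, Polynomial.X_comp]
    cases m
    · simp only [lawP, addLaw, op, cond_false, map_add, RatFunc.algebraMap_X, RatFunc.algebraMap_C]
    · simp only [lawP, mulLaw, op, cond_true, map_mul, RatFunc.algebraMap_X, RatFunc.algebraMap_C]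
      exact _root_.mul_comm _ _
  have e1 : τA.comp (cst F) = (cst₂ F).comp σ := AlgHom.ext fun x => τ_C _ x
  have e2 : θA.comp (cst F) = (cst₂ F).comp (cst F) := AlgHom.ext fun x => by
    show θ (lawP m F) (lawP_deg m) (RatFunc.C x) = _
    rw [← RatFunc.algebraMap_C, θ_algebraMap, sub_apply, Polynomial.map_C, Polynomial.C_comp, RatFunc.algebraMap_C]
    rfl
  have key : τA.comp σ = θA.comp σ := hx.cancel (by
    rw [← sp_comp, Category.assoc, hσ (unit_X F), comp_act', cd.sp_pt, cd.pt_congr hτt, ← Category.assoc,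
      sp_comp, e1, ← sp_comp, Category.assoc, hσ (unit_X F), comp_act', cd.sp_pt, cd.pt_congr hct,
      ← act'_mul, ← Category.assoc, sp_comp]
    rw [← sp_comp σ θA, Category.assoc, hσ (unit_X F), comp_act', cd.sp_pt, cd.pt_congr hθt, cd.pt_op,
      ← Category.assoc, sp_comp, e2])
  exact AlgHom.congr_fun key f

include cd a in
theorem exists_ratAct (hx : GenPt X xη) :
    ∃ σ : F →ₐ[K] RatFunc F, (∀ h, sp σ ≫ xη = act' a (cd.pt (RatFunc.X : RatFunc F) h) (sp (cst F) ≫ xη)) ∧
      ∃ r : RatAct (lawP m F) (lawP_deg m) (one' m F), r.σ = σ.toRingHom := by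
  obtain ⟨σ, h1, h2⟩ := exists_coaction cd a hx
  exact ⟨σ, h2, ⟨σ.toRingHom, fun f => (h1 f).1, fun f => (h1 f).2, assoc_of_spec cd a hx σ h2⟩, rfl⟩

end Generic

end Groth.Agent.CylLib
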