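import Mathlib.FieldTheory.RatFunc.AsPolynomial
import Mathlib.FieldTheory.IntermediateField.Adjoin.Defs
import Mathlib.Algebra.Polynomial.Taylor
import Mathlib.RingTheory.Polynomial.Basic
import Mathlib.Algebra.Group.Subgroup.Basic
import Mathlib.RingTheory.Coprime.Lemmas
import Mathlib.GroupTheory.ArchimedeanDensely
import Mathlib.FieldTheory.Tower
import Mathlib.RingTheory.Algebraic.Basic

/-!
# Rational actions of the additive and multiplicative group on a field
-/

set_option autoImplicit false

universe u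

open Polynomial

noncomputable section

namespace Groth.Agent.CylLib

variable {F : Type u} [Field F]

/-- Two coprime presentations of a fraction with monic denominators agree. -/
theorem eq_of_mul_eq {L : Type u} [Field L] {A B A' B' : L[X]} (h : A * B' = A' * B)
    (hB : B.Monic) (hB' : B'.Monic) (hc : IsCoprime A B) (hc' : IsCoprime A' B') : A = A' ∧ B = B' := by
  have h1 : B ∣ B' := hc.symm.dvd_of_dvd_mul_left ⟨A', by rw [h]; ring⟩
  have h2 : B' ∣ B := hc'.symm.dvd_of_dvd_mul_left ⟨A, by rw [← h]; ring⟩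
  have hBB : B = B' := eq_of_monic_of_associated hB hB' (associated_of_dvd_dvd h1 h2)
  subst hBB
  exact ⟨mul_right_cancel₀ hB.ne_zero h, rfl⟩

/-- The two maps `F(t) → F(t₁)(t₂)`: the coefficients through `σ`. -/
def τ (σ : F →+* RatFunc F) : RatFunc F →+* RatFunc (RatFunc F) :=
  RatFunc.liftRingHom ((algebraMap (RatFunc F)[X] (RatFunc (RatFunc F))).comp (Polynomial.mapRingHom σ))
    (nonZeroDivisors_le_comap_nonZeroDivisors_of_injective _
      ((IsFractionRing.injective (RatFunc F)[X] _).comp (Polynomial.map_injective _ σ.injective)))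

@[simp] lemma τ_algebraMap (σ : F →+* RatFunc F) (P : F[X]) :
    τ σ (algebraMap _ _ P) = algebraMap (RatFunc F)[X] _ (P.map σ) := by
  simp [τ, RatFunc.liftRingHom_apply]

@[simp] lemma τ_C (σ : F →+* RatFunc F) (a : F) : τ σ (RatFunc.C a) = RatFunc.C (σ a) := by
  rw [← RatFunc.algebraMap_C, τ_algebraMap, map_C, RatFunc.algebraMap_C]

@[simp] lemma τ_X (σ : F →+* RatFunc F) : τ σ RatFunc.X = RatFunc.X := by
  rw [← RatFunc.algebraMap_X, τ_algebraMap, map_X, RatFunc.algebraMap_X]

/-- Substituting the law into a polynomial. -/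
def sub (Q : (RatFunc F)[X]) : F[X] →+* (RatFunc F)[X] :=
  (Polynomial.compRingHom Q).comp (Polynomial.mapRingHom RatFunc.C)

lemma sub_apply (Q : (RatFunc F)[X]) (P : F[X]) : sub Q P = (P.map RatFunc.C).comp Q := rfl

lemma sub_injective (Q : (RatFunc F)[X]) (hQ : 0 < Q.natDegree) : Function.Injective (sub Q) := by
  rw [injective_iff_map_eq_zero]
  intro P h
  rw [sub_apply, comp_eq_zero_iff] at h
  rcases h with h | ⟨-, h⟩
  · exact Polynomial.map_injective _ (RingHom.injective (RatFunc.C : F →+* RatFunc F)) (h.trans (Polynomial.map_zero _).symm)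
  · rw [h, natDegree_C] at hQ
    omega

/-- The map `F(t) → F(t₁)(t₂)` substituting the law. -/
def θ (Q : (RatFunc F)[X]) (hQ : 0 < Q.natDegree) : RatFunc F →+* RatFunc (RatFunc F) :=
  RatFunc.liftRingHom ((algebraMap (RatFunc F)[X] (RatFunc (RatFunc F))).comp (sub Q))
    (nonZeroDivisors_le_comap_nonZeroDivisors_of_injective _
      ((IsFractionRing.injective (RatFunc F)[X] _).comp (sub_injective Q hQ)))

@[simp] lemma θ_algebraMap (Q : (RatFunc F)[X]) (hQ : 0 < Q.natDegree) (P : F[X]) :
    θ Q hQ (algebraMap _ _ P) = algebraMap (RatFunc F)[X] _ (sub Q P) := by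
  simp [θ, RatFunc.liftRingHom_apply]

/-- The law of the additive group. -/
def addLaw : (RatFunc F)[X] := X + C RatFunc.X

/-- The law of the multiplicative group. -/
def mulLaw : (RatFunc F)[X] := C RatFunc.X * X

lemma addLaw_deg : 0 < (addLaw (F := F)).natDegree := by simp [addLaw]

lemma mulLaw_deg : 0 < (mulLaw (F := F)).natDegree := by simp [mulLaw, RatFunc.X_ne_zero]

/-- A rational action with law `Q` and unit `c`. -/
structure RatAct (Q : (RatFunc F)[X]) (hQ : 0 < Q.natDegree) (c : F) where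
  /-- The coaction. -/
  σ : F →+* RatFunc F
  denom_ne : ∀ f, (σ f).denom.eval c ≠ 0
  eval_eq : ∀ f, (σ f).num.eval c = f * (σ f).denom.eval c
  assoc : ∀ f, τ σ (σ f) = θ Q hQ (σ f)

theorem RatAct.key {Q : (RatFunc F)[X]} {hQ : 0 < Q.natDegree} {c : F} (a : RatAct Q hQ c) (f : F) :
    (a.σ f).num.map a.σ * sub Q (a.σ f).denom = sub Q (a.σ f).num * (a.σ f).denom.map a.σ := by
  apply IsFractionRing.injective (RatFunc F)[X] (RatFunc (RatFunc F))
  have h1 : algebraMap F[X] (RatFunc F) (a.σ f).num = a.σ f * algebraMap _ _ (a.σ f).denom := by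
    have := RatFunc.num_div_denom (a.σ f)
    rw [div_eq_iff (RatFunc.algebraMap_ne_zero (RatFunc.denom_ne_zero _))] at this
    exact this
  have h2 := congrArg (τ a.σ) h1
  have h3 := congrArg (θ Q hQ) h1
  rw [map_mul, τ_algebraMap, τ_algebraMap] at h2
  rw [map_mul, θ_algebraMap, θ_algebraMap, ← a.assoc] at h3
  rw [map_mul, map_mul, h2, h3]
  ring

/-! ### The additive group -/

section Additive

variable (a : RatAct (addLaw (F := F)) addLaw_deg 0)

/-- `σ f` is the polynomial `P`. -/
def Pol (f : F) (P : F[X]) : Prop := a.σ f = algebraMap F[X] (RatFunc F) P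

lemma sub_addLaw (P : F[X]) : sub addLaw P = taylor RatFunc.X (P.map RatFunc.C) := rfl

lemma map_eq_taylor (f : F) :
    (a.σ f).num.map a.σ = taylor RatFunc.X ((a.σ f).num.map RatFunc.C) ∧
      (a.σ f).denom.map a.σ = taylor RatFunc.X ((a.σ f).denom.map RatFunc.C) := by
  have hk := a.key f
  rw [← sub_addLaw, ← sub_addLaw]
  refine eq_of_mul_eq hk ((RatFunc.monic_denom _).map _) ?_ ?_ ?_
  · exact ((RatFunc.monic_denom _).map _).comp (monic_X_add_C _) (by simp [addLaw])
  · exact IsCoprime.map (RatFunc.isCoprime_num_denom _) (Polynomial.mapRingHom a.σ)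
  · exact IsCoprime.map (RatFunc.isCoprime_num_denom _) (sub addLaw)

/-- If the Taylor identity holds, the coefficients have polynomial coaction. -/
lemma pol_coeff {P : F[X]} (h : P.map a.σ = taylor RatFunc.X (P.map RatFunc.C)) (i : ℕ) :
    Pol a (P.coeff i) (hasseDeriv i P) := by
  have := congrArg (fun R => Polynomial.coeff R i) h
  simp only [coeff_map, taylor_coeff] at this
  rw [Pol, this]
  have e : hasseDeriv i (P.map RatFunc.C) = (hasseDeriv i P).map RatFunc.C := by
    ext n; simp [hasseDeriv_coeff, coeff_map]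
  rw [e, eval_map]
  have : (algebraMap F[X] (RatFunc F)) = eval₂RingHom RatFunc.C RatFunc.X := by
    refine Polynomial.ringHom_ext (fun x => ?_) ?_ <;> simp
  rw [this]; rfl

lemma Pol.taylor_map {f : F} {P : F[X]} (h : Pol a f P) : P.map a.σ = taylor RatFunc.X (P.map RatFunc.C) := by
  have := (map_eq_taylor a f).1
  rwa [show (a.σ f) = algebraMap F[X] (RatFunc F) P from h, RatFunc.num_algebraMap] at this

lemma Pol.eval_zero {f : F} {P : F[X]} (h : Pol a f P) : P.eval 0 = f := by
  have := a.eval_eq f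
  rwa [show (a.σ f) = algebraMap F[X] (RatFunc F) P from h, RatFunc.num_algebraMap,
    RatFunc.denom_algebraMap, eval_one, mul_one] at this

/-- The invariants. -/
def inv₀ : Subfield F := a.σ.eqLocusField RatFunc.C

lemma mem_inv₀ {f : F} : f ∈ inv₀ a ↔ a.σ f = RatFunc.C f := Iff.rfl

lemma pol_C {f : F} (h : f ∈ inv₀ a) : Pol a f (C f) := by
  rw [Pol, RatFunc.algebraMap_C]; exact h

lemma Pol.mem_of_degree_zero {f : F} {P : F[X]} (h : Pol a f P) (h0 : P.natDegree = 0) : f ∈ inv₀ a := by
  rw [eq_C_of_natDegree_eq_zero h0] at h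
  have hf := Pol.eval_zero a h
  rw [eval_C] at hf
  rw [mem_inv₀, h, RatFunc.algebraMap_C, hf]

theorem exists_slice_add (hne : a.σ ≠ RatFunc.C) :
    ∃ s : F, Transcendental (inv₀ a) s ∧ IntermediateField.adjoin (inv₀ a) {s} = ⊤ := by
  classical
  have hall : ∀ f : F, ∃ A B : F, (∃ P, Pol a A P) ∧ (∃ P, Pol a B P) ∧ f = A / B := fun f => by
    refine ⟨(a.σ f).num.coeff 0, (a.σ f).denom.coeff 0, ⟨_, pol_coeff a (map_eq_taylor a f).1 0⟩,
      ⟨_, pol_coeff a (map_eq_taylor a f).2 0⟩, ?_⟩
    rw [coeff_zero_eq_eval_zero, coeff_zero_eq_eval_zero, a.eval_eq f, mul_div_cancel_right₀ _ (a.denom_ne f)]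
  have hex : ∃ d : ℕ, 0 < d ∧ ∃ f P, Pol a f P ∧ P.natDegree = d := by
    by_contra hcon
    refine hne (RingHom.ext fun f => ?_)
    obtain ⟨A, B, ⟨P, hP⟩, ⟨R, hR⟩, rfl⟩ := hall f
    have h1 : P.natDegree = 0 := Nat.eq_zero_of_not_pos fun h => hcon ⟨_, h, A, P, hP, rfl⟩
    have h2 : R.natDegree = 0 := Nat.eq_zero_of_not_pos fun h => hcon ⟨_, h, B, R, hR, rfl⟩
    exact div_mem (Pol.mem_of_degree_zero a hP h1) (Pol.mem_of_degree_zero a hR h2)
  let d := Nat.find hex
  obtain ⟨hd, s, P, hP, hPd⟩ := Nat.find_spec hex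
  have hmin : ∀ {f R}, Pol a f R → R.natDegree < d → R.natDegree = 0 := fun {f R} hR hlt =>
    Nat.eq_zero_of_not_pos fun h => Nat.find_min hex hlt ⟨h, f, R, hR, rfl⟩
  have hsmall : ∀ {Q : F[X]} {g : F}, Pol a g Q → ∀ i r, Q.natDegree ≤ i + r → r < d → 0 < r →
      ((i + r).choose i : F) * Q.coeff (i + r) = 0 := fun {Q g} hQ i r hle hrd hr => by
    have h0 := pol_coeff a (Pol.taylor_map a hQ) i
    have hdeg : (hasseDeriv i Q).natDegree ≤ r := (natDegree_hasseDeriv_le Q i).trans (by omega)
    have := hmin h0 (lt_of_le_of_lt hdeg hrd)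
    have hc : (hasseDeriv i Q).coeff r = 0 := coeff_eq_zero_of_natDegree_lt (by omega)
    rwa [hasseDeriv_coeff, add_comm r i] at hc
  set aL := P.leadingCoeff with haL
  have haL0 : aL ≠ 0 := leadingCoeff_ne_zero.2 fun h => by simp [h] at hPd; omega
  have haLinv : aL ∈ inv₀ a := by
    refine Pol.mem_of_degree_zero a (pol_coeff a (Pol.taylor_map a hP) P.natDegree) ?_
    simpa using natDegree_hasseDeriv_le P P.natDegree
  have hbin : ((X : F[X]) + 1) ^ d = X ^ d + 1 := by
    refine Polynomial.ext fun n => ?_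
    rw [coeff_X_add_one_pow, coeff_add, coeff_X_pow, coeff_one]
    rcases Nat.eq_zero_or_pos n with rfl | hn
    · simp [(show (0 : ℕ) ≠ d by omega)]
    rcases lt_trichotomy n d with h | h | h
    · have := hsmall hP n (d - n) (by omega) (by omega) (by omega)
      rw [Nat.add_sub_cancel' h.le, show P.coeff d = aL from by rw [haL, leadingCoeff, hPd]] at this
      simp [(mul_eq_zero.1 this).resolve_right haL0, h.ne, hn.ne']
    · subst h; simp [hn.ne']
    · simp [Nat.choose_eq_zero_of_lt h, h.ne', hn.ne']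
  refine ⟨s, ?_, ?_⟩
  · rw [transcendental_iff]
    intro Q hQ
    have h := congrArg a.σ hQ
    rw [map_zero, aeval_def, hom_eval₂] at h
    have e : a.σ.comp (algebraMap (inv₀ a) F) = RatFunc.C.comp (inv₀ a).subtype := RingHom.ext fun x => x.2
    rw [e, show a.σ s = algebraMap F[X] (RatFunc F) P from hP] at h
    have : RatFunc.C.comp (inv₀ a).subtype = (algebraMap F[X] (RatFunc F)).comp (C.comp (inv₀ a).subtype) :=
      RingHom.ext fun x => (RatFunc.algebraMap_C _).symm
    rw [this, ← hom_eval₂] at h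
    have h' : (Q.map (inv₀ a).subtype).comp P = 0 := by
      rw [Polynomial.comp, eval₂_map]
      exact RatFunc.algebraMap_injective F (h.trans (map_zero _).symm)
    rcases comp_eq_zero_iff.1 h' with h' | ⟨-, h'⟩
    · exact Polynomial.map_injective _ (inv₀ a).subtype.injective (h'.trans (Polynomial.map_zero _).symm)
    · rw [h', natDegree_C] at hPd; omega
  · let M := IntermediateField.adjoin (inv₀ a) {s}
    have hs : s ∈ M := IntermediateField.subset_adjoin _ _ rfl
    have hmem : ∀ {f}, f ∈ inv₀ a → f ∈ M := fun {f} hf => M.algebraMap_mem ⟨f, hf⟩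
    have main : ∀ e : ℕ, ∀ g Q, Pol a g Q → Q.natDegree = e → g ∈ M := by
      intro e
      induction e using Nat.strong_induction_on with
      | _ e ih =>
        intro g Q hQ he
        rcases Nat.eq_zero_or_pos e with rfl | hepos
        · exact hmem (Pol.mem_of_degree_zero a hQ he)
        have hQ0 : Q.leadingCoeff ≠ 0 := leadingCoeff_ne_zero.2 fun h => by simp [h] at he; omega
        have hr : e % d = 0 := by
          by_contra hr
          have hlt := Nat.mod_lt e hd
          have h1 := hsmall hQ (e - e % d) (e % d) (by rw [Nat.sub_add_cancel (Nat.mod_le e d), he]) hlt (Nat.pos_of_ne_zero hr)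
          rw [Nat.sub_add_cancel (Nat.mod_le e d), Nat.choose_symm (Nat.mod_le e d), ← he,
            coeff_natDegree, mul_eq_zero] at h1
          have hc : ((e.choose (e % d) : ℕ) : F) = 1 := by
            have h2 := coeff_X_add_one_pow F e (e % d)
            rw [← Nat.div_add_mod e d, pow_add, pow_mul, hbin, Nat.div_add_mod] at h2
            rw [← h2]
            have hz : ((X : F[X]) ^ d + 1) ^ (e / d) = expand F d ((X + 1) ^ (e / d)) := by simp
            rw [hz, coeff_mul, Finset.sum_eq_single (0, e % d)]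
            · rw [coeff_X_add_one_pow, Nat.choose_self, Nat.cast_one, mul_one, coeff_expand hd, if_pos (dvd_zero d),
                Nat.zero_div, coeff_X_add_one_pow, Nat.choose_zero_right, Nat.cast_one]
            · rintro ⟨i, j⟩ hij hne'
              rw [Finset.mem_antidiagonal] at hij
              rw [coeff_expand hd, if_neg, zero_mul]
              intro hdi
              rcases Nat.eq_zero_or_pos i with hi | hi
              · exact hne' (Prod.ext hi (by simp only; omega))
              · have := Nat.le_of_dvd hi hdi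
                simp only [d] at *
                omega
            · simp
          rw [he] at h1
          rcases h1 with h1 | h1
          · rw [hc] at h1; exact one_ne_zero h1
          · exact hQ0 h1
        obtain ⟨k, hk⟩ := Nat.dvd_of_mod_eq_zero hr
        have hQlead : Q.leadingCoeff ∈ inv₀ a := by
          refine Pol.mem_of_degree_zero a (pol_coeff a (Pol.taylor_map a hQ) Q.natDegree) ?_
          simpa using natDegree_hasseDeriv_le Q Q.natDegree
        let b := Q.leadingCoeff / aL ^ k
        have hb : b ∈ inv₀ a := div_mem hQlead (pow_mem haLinv k)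
        have hb0 : b ≠ 0 := div_ne_zero hQ0 (pow_ne_zero _ haL0)
        have hg' : Pol a (g - b * s ^ k) (Q - C b * P ^ k) := by
          rw [Pol, map_sub, map_sub, map_mul, map_mul, map_pow, map_pow, hQ,
            show a.σ b = _ from pol_C a hb, hP]
        have hdegb : (C b * P ^ k).natDegree = e := by
          rw [natDegree_C_mul hb0, natDegree_pow, hPd, hk, mul_comm]
        have hlt : (Q - C b * P ^ k).natDegree < e := by
          have h1 : (Q - C b * P ^ k).natDegree ≤ e :=
            (natDegree_sub_le _ _).trans (by simp [hdegb, he])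
          refine lt_of_le_of_ne h1 fun h => ?_
          have h2 : (Q - C b * P ^ k).coeff e = 0 := by
            rw [coeff_sub, coeff_C_mul, ← he, coeff_natDegree, he, show (P ^ k).coeff e = aL ^ k from ?_,
              div_mul_cancel₀ _ (pow_ne_zero _ haL0), sub_self]
            rw [haL, ← leadingCoeff_pow, leadingCoeff, natDegree_pow, hPd, hk, mul_comm]
          rw [← h, coeff_natDegree, leadingCoeff_eq_zero] at h2
          rw [h2, natDegree_zero] at h
          omega
        have := ih _ hlt _ _ hg' rfl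
        simpa using add_mem this (mul_mem (hmem hb) (pow_mem hs k))
    refine eq_top_iff.2 fun f _ => ?_
    obtain ⟨A, B, ⟨P', hP'⟩, ⟨R', hR'⟩, rfl⟩ := hall f
    exact div_mem (main _ _ _ hP' rfl) (main _ _ _ hR' rfl)

end Additive

/-! ### The multiplicative group -/

section Multiplicative

variable (a : RatAct (mulLaw (F := F)) mulLaw_deg 1)

/-- `f` is semi-invariant of weight `w`. -/
def Wt (w : ℤ) (f : F) : Prop := a.σ f = RatFunc.C f * RatFunc.X ^ w

lemma coeff_sub_mulLaw (P : F[X]) (i : ℕ) :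
    (sub mulLaw P).coeff i = RatFunc.C (P.coeff i) * RatFunc.X ^ i := by
  rw [sub_apply, mulLaw]
  induction P using Polynomial.induction_on' with
  | add p q hp hq => simp only [Polynomial.map_add, add_comp, coeff_add, hp, hq, map_add, add_mul]
  | monomial n c =>
    rw [map_monomial, monomial_comp, mul_pow, ← C_pow, ← mul_assoc, ← C_mul, coeff_C_mul, coeff_X_pow, coeff_monomial]
    by_cases h : i = n
    · subst h; simp
    · simp [h, Ne.symm h]

lemma wt_coeff (f : F) (i : ℕ) :
    Wt a ((i : ℤ) - (a.σ f).denom.natDegree) ((a.σ f).num.coeff i) ∧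
      Wt a ((i : ℤ) - (a.σ f).denom.natDegree) ((a.σ f).denom.coeff i) := by
  let t : RatFunc F := RatFunc.X
  let b := (a.σ f).denom.natDegree
  have ht : t ^ b ≠ 0 := pow_ne_zero _ RatFunc.X_ne_zero
  have hk := a.key f
  have hdeg : (sub mulLaw (a.σ f).denom).natDegree = b := by
    rw [sub_apply, natDegree_comp, natDegree_map_eq_of_injective (RingHom.injective (RatFunc.C : F →+* RatFunc F))]
    simp [mulLaw, RatFunc.X_ne_zero, b]
  have hm : (C (t ^ b)⁻¹ * sub mulLaw (a.σ f).denom).Monic := by
    rw [Monic, leadingCoeff_mul, leadingCoeff_C, leadingCoeff, hdeg, coeff_sub_mulLaw,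
      show (a.σ f).denom.coeff b = 1 from (RatFunc.monic_denom _).coeff_natDegree, map_one, one_mul,
      inv_mul_cancel₀ ht]
  obtain ⟨hA, hB⟩ := eq_of_mul_eq (A' := C (t ^ b)⁻¹ * sub mulLaw (a.σ f).num)
    (B' := C (t ^ b)⁻¹ * sub mulLaw (a.σ f).denom) (by change (a.σ f).num.map a.σ * _ = _; rw [mul_left_comm, hk]; ring)
    ((RatFunc.monic_denom (a.σ f)).map a.σ) hm
    (IsCoprime.map (RatFunc.isCoprime_num_denom _) (Polynomial.mapRingHom a.σ))
    ((isCoprime_mul_unit_left (isUnit_C.2 (inv_ne_zero ht).isUnit) _ _).2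
      (IsCoprime.map (RatFunc.isCoprime_num_denom _) (sub mulLaw)))
  constructor
  · have h := congrArg (fun R => Polynomial.coeff R i) hA
    simp only [coe_mapRingHom, coeff_map, coeff_C_mul, coeff_sub_mulLaw] at h
    rw [Wt, h, zpow_sub₀ RatFunc.X_ne_zero, zpow_natCast, zpow_natCast]
    simp only [t, b, div_eq_mul_inv]
    ring
  · have h := congrArg (fun R => Polynomial.coeff R i) hB
    simp only [coe_mapRingHom, coeff_map, coeff_C_mul, coeff_sub_mulLaw] at h
    rw [Wt, h, zpow_sub₀ RatFunc.X_ne_zero, zpow_natCast, zpow_natCast]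
    simp only [t, b, div_eq_mul_inv]
    ring

/-- The invariants. -/
def invₘ : Subfield F := a.σ.eqLocusField RatFunc.C

/-- The weights which occur. -/
def weights : AddSubgroup ℤ where
  carrier := {w | ∃ f : F, f ≠ 0 ∧ Wt a w f}
  zero_mem' := ⟨1, one_ne_zero, by simp [Wt]⟩
  add_mem' := by
    rintro v w ⟨f, hf, hfv⟩ ⟨g, hg, hgw⟩
    exact ⟨f * g, mul_ne_zero hf hg, by rw [Wt, map_mul, map_mul, hfv, hgw, zpow_add₀ RatFunc.X_ne_zero]; ring⟩
  neg_mem' := by
    rintro v ⟨f, hf, hfv⟩
    exact ⟨f⁻¹, inv_ne_zero hf, by rw [Wt, map_inv₀, map_inv₀, hfv, zpow_neg, mul_inv]⟩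

theorem exists_slice_mul (hne : a.σ ≠ RatFunc.C) :
    ∃ s : F, Transcendental (invₘ a) s ∧ IntermediateField.adjoin (invₘ a) {s} = ⊤ := by
  obtain ⟨n, hn⟩ := Int.subgroup_cyclic (weights a)
  have hmem : ∀ w : ℤ, w ∈ weights a → ∃ k : ℤ, w = k * n := fun w hw => by
    rw [hn, AddSubgroup.mem_closure_singleton] at hw
    obtain ⟨k, hk⟩ := hw
    exact ⟨k, by simpa using hk.symm⟩
  have hn0 : n ≠ 0 := by
    rintro rfl
    refine hne (RingHom.ext fun f => ?_)
    have hinv : ∀ w c, Wt a w c → c ∈ invₘ a := fun w c hc => by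
      by_cases h : c = 0
      · rw [h]; exact zero_mem _
      obtain ⟨k, rfl⟩ := hmem w ⟨c, h, hc⟩
      show a.σ c = RatFunc.C c
      simpa [Wt] using hc
    have : f = (a.σ f).num.eval 1 / (a.σ f).denom.eval 1 := by
      rw [a.eval_eq f, mul_div_cancel_right₀ _ (a.denom_ne f)]
    rw [this]
    refine (div_mem ?_ ?_ : _ ∈ invₘ a)
    · rw [eval_eq_sum_range]
      exact sum_mem fun i _ => mul_mem (hinv _ _ (wt_coeff a f i).1) (pow_mem (one_mem _) i)
    · rw [eval_eq_sum_range]
      exact sum_mem fun i _ => mul_mem (hinv _ _ (wt_coeff a f i).2) (pow_mem (one_mem _) i)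
  have hnW : n ∈ weights a := by rw [hn]; exact AddSubgroup.mem_closure_singleton_self n
  have hmem' : ((n.natAbs : ℕ) : ℤ) ∈ weights a := by
    rcases Int.natAbs_eq n with h | h
    · rw [← h]; exact hnW
    · rw [show ((n.natAbs : ℕ) : ℤ) = -n by omega]; exact neg_mem hnW
  obtain ⟨s, hs0, hs⟩ := hmem'
  set d := n.natAbs
  have hd : 0 < d := Int.natAbs_pos.2 hn0
  refine ⟨s, ?_, ?_⟩
  · rw [transcendental_iff]
    intro Q hQ
    have h := congrArg a.σ hQ
    rw [map_zero, aeval_def, hom_eval₂] at h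
    have e : a.σ.comp (algebraMap (invₘ a) F) = (algebraMap F[X] (RatFunc F)).comp (C.comp (invₘ a).subtype) :=
      RingHom.ext fun x => (show a.σ x = RatFunc.C (x : F) from x.2).trans (RatFunc.algebraMap_C _).symm
    rw [e, show a.σ s = algebraMap F[X] (RatFunc F) (C s * X ^ d) by
      rw [map_mul, map_pow, RatFunc.algebraMap_C, RatFunc.algebraMap_X, ← zpow_natCast]; exact hs, ← hom_eval₂] at h
    have h' : (Q.map (invₘ a).subtype).comp (C s * X ^ d) = 0 := by
      rw [Polynomial.comp, eval₂_map]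
      exact RatFunc.algebraMap_injective F (h.trans (map_zero _).symm)
    rcases comp_eq_zero_iff.1 h' with h' | ⟨-, h'⟩
    · exact Polynomial.map_injective _ (invₘ a).subtype.injective (h'.trans (Polynomial.map_zero _).symm)
    · have := congrArg natDegree h'
      rw [natDegree_C_mul_X_pow _ _ hs0, natDegree_C] at this
      omega
  · let M := IntermediateField.adjoin (invₘ a) {s}
    have hsM : s ∈ M := IntermediateField.subset_adjoin _ _ rfl
    have hc : ∀ w c, Wt a w c → c ∈ M := fun w c hc => by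
      by_cases h : c = 0
      · rw [h]; exact zero_mem _
      obtain ⟨k, rfl⟩ := hmem w ⟨c, h, hc⟩
      obtain ⟨l, hl⟩ : ∃ l : ℤ, k * n = l * (d : ℤ) := ⟨k * n.sign, by rw [mul_assoc, Int.sign_mul_natAbs]⟩
      rw [hl] at hc
      have hq : c / s ^ l ∈ invₘ a := by
        show a.σ _ = RatFunc.C _
        rw [map_div₀, map_div₀, map_zpow₀, map_zpow₀, hc, hs, mul_zpow, ← zpow_mul, mul_comm (d : ℤ) l,
          mul_div_mul_right _ _ (zpow_ne_zero _ RatFunc.X_ne_zero)]
      have : c = c / s ^ l * s ^ l := (div_mul_cancel₀ _ (zpow_ne_zero _ hs0)).symm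
      rw [this]
      exact mul_mem (M.algebraMap_mem ⟨_, hq⟩) (zpow_mem hsM l)
    refine eq_top_iff.2 fun f _ => ?_
    have : f = (a.σ f).num.eval 1 / (a.σ f).denom.eval 1 := by
      rw [a.eval_eq f, mul_div_cancel_right₀ _ (a.denom_ne f)]
    rw [this]
    refine div_mem ?_ ?_
    · rw [eval_eq_sum_range]
      exact sum_mem fun i _ => mul_mem (hc _ _ (wt_coeff a f i).1) (pow_mem (one_mem _) i)
    · rw [eval_eq_sum_range]
      exact sum_mem fun i _ => mul_mem (hc _ _ (wt_coeff a f i).2) (pow_mem (one_mem _) i)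

end Multiplicative

end Groth.Agent.CylLib
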