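import Groth.Agent.CylLib.Act
import Mathlib.AlgebraicGeometry.AffineSpace
import Mathlib.RingTheory.FiniteType
import Mathlib.FieldTheory.IntermediateField.Adjoin.Basic
import Mathlib.AlgebraicGeometry.SpreadingOut
import Mathlib.AlgebraicGeometry.Morphisms.FiniteType
import Mathlib.RingTheory.Spectrum.Prime.Topology

/-!
# Cylinders and the triviality criterion
-/

set_option autoImplicit false
set_option backward.isDefEq.respectTransparency.types false

universe u

open CategoryTheory MonoidalCategory CartesianMonoidalCategory MonObj GrpObj AlgebraicGeometry Limits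
open Groth.Agent.GaGm (sc specK fnB toP toP_appTop hom_ext_specK fnB_algebraMap appTop_sc fnB_bijective)

noncomputable section

namespace Groth.Agent.CylLib

variable {K : Type u} [Field K]

/-! ### The generic point -/

section Generic

variable (X : Over (Spec (CommRingCat.of K))) [IsIntegral X.left]

/-- The scalars in the function field. -/
def fStr : K →+* X.left.functionField :=
  (Spec.preimage (X.left.fromSpecStalk (genericPoint X.left) ≫ X.hom)).hom

@[reducible] def fAlg : Algebra K X.left.functionField := (fStr X).toAlgebra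

/-- The scalars on an affine open. -/
def uStr (U : X.left.Opens) (hU : IsAffineOpen U) : K →+* Γ(X.left, U) :=
  (Spec.preimage (hU.fromSpec ≫ X.hom)).hom

lemma germ_uStr (U : X.left.Opens) [Nonempty U] (hU : IsAffineOpen U) :
    (algebraMap Γ(X.left, U) X.left.functionField).comp (uStr X U hU) = fStr X := by
  have hη : genericPoint X.left ∈ U := ((genericPoint_spec X.left).mem_open_set_iff U.2).mpr (by simpa using ‹Nonempty U›)
  have h : Spec.map (X.left.presheaf.germ U _ hη) ≫ Spec.map (Spec.preimage (hU.fromSpec ≫ X.hom)) =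
      Spec.map (Spec.preimage (X.left.fromSpecStalk (genericPoint X.left) ≫ X.hom)) := by
    rw [Spec.map_preimage, Spec.map_preimage, ← Category.assoc,
      ← hU.fromSpecStalk_eq_fromSpecStalk hη]
    rfl
  rw [← Spec.map_comp] at h
  exact congrArg CommRingCat.Hom.hom (Spec.map_injective h)

/-- The generic point as a point with values in the function field. -/
def xGen : letI := fAlg X; specK (K := K) X.left.functionField ⟶ X :=
  letI := fAlg X
  Over.homMk (X.left.fromSpecStalk (genericPoint X.left)) (by
    show _ = Spec.map (CommRingCat.ofHom (fStr X))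
    exact (Spec.map_preimage _).symm)

lemma genPt : letI := fAlg X; GenPt X (xGen X) := by
  letI := fAlg X
  refine ⟨inferInstanceAs (Mono (X.left.fromSpecStalk (genericPoint X.left))), fun R _ _ ε h => ?_⟩
  have h' : ε (IsLocalRing.closedPoint (CommRingCat.of R)) = genericPoint X.left :=
    h.trans (Scheme.fromSpecStalk_closedPoint (x := genericPoint X.left))
  obtain ⟨β, hβ⟩ := SpreadOutFP.exists_SpecMap_fromSpecStalk (R := CommRingCat.of R) ε h'
  exact ⟨β.hom, hβ⟩

end Generic

/-! ### Triviality -/

section Triv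

variable {G : Over (Spec (CommRingCat.of K))} [GrpObj G] {m : Bool} (cd : Coord G m)
variable {X : Over (Spec (CommRingCat.of K))} [IsIntegral X.left] [IsSeparated X.hom] (a : AlgGrp.Action G X)

include cd in
theorem act_eq_snd
    (h : letI := fAlg X; ∀ hu, act' a (cd.pt (RatFunc.X : RatFunc X.left.functionField) hu)
      (sp (cst X.left.functionField) ≫ xGen X) = sp (cst X.left.functionField) ≫ xGen X) :
    a.act = snd G X := by
  letI := fAlg X
  refine Over.OverMorphism.ext (Scheme.hom_ext_of_forall _ _ fun z => ?_)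
  let P := G ⊗ X
  obtain ⟨_, ⟨U, hU, rfl⟩, hzU, -⟩ :=
    X.left.isBasis_affineOpens.exists_subset_of_mem_open (Set.mem_univ ((snd G X).left z)) isOpen_univ
  let W : P.left.Opens := (snd G X).left ⁻¹ᵁ U
  refine ⟨W, hzU, ?_⟩
  haveI : Nonempty U := ⟨⟨_, hzU⟩⟩
  let B := Γ(X.left, U)
  letI : Algebra K B := (uStr X U hU).toAlgebra
  let F := X.left.functionField
  haveI : IsScalarTower K B F := IsScalarTower.of_algebraMap_eq fun x => (RingHom.congr_fun (germ_uStr X U hU) x).symm
  let xU : specK (K := K) B ⟶ X := Over.homMk hU.fromSpec (by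
    show _ = Spec.map (CommRingCat.ofHom (uStr X U hU))
    exact (Spec.map_preimage _).symm)
  let T' : Over (Spec (CommRingCat.of K)) := Over.mk (W.ι ≫ P.hom)
  let j : T' ⟶ P := Over.homMk W.ι
  suffices j ≫ a.act = j ≫ snd G X from congrArg (fun f => f.left) this
  let Bt := Localization.Away ((Polynomial.X : Polynomial B) ^ ex m)
  let t : Bt := algebraMap (Polynomial B) Bt Polynomial.X
  have ht : IsUnit (t ^ ex m) := by
    rw [← map_pow]; exact IsLocalization.Away.algebraMap_isUnit _
  let cB : B →ₐ[K] Bt := (IsScalarTower.toAlgHom K (Polynomial B) Bt).comp (IsScalarTower.toAlgHom K B (Polynomial B))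
  -- the universal statement
  have huniv : act' a (cd.pt t ht) (sp cB ≫ xU) = sp cB ≫ xU := by
    let g : B →ₐ[K] F := IsScalarTower.toAlgHom K B F
    have hg : Function.Injective g := X.left.germToFunctionField_injective U
    let e : Polynomial B →ₐ[K] RatFunc F := (IsScalarTower.toAlgHom K (Polynomial F) (RatFunc F)).comp (Polynomial.mapAlgHom g)
    have he : Function.Injective e :=
      (RatFunc.algebraMap_injective F).comp (Polynomial.map_injective _ hg)
    have hne : ∀ y : Submonoid.powers ((Polynomial.X : Polynomial B) ^ ex m), IsUnit (e y) := by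
      rintro ⟨_, n, rfl⟩
      refine (show e _ ≠ 0 from ?_).isUnit
      rw [map_ne_zero_iff e he]
      exact pow_ne_zero _ (pow_ne_zero _ Polynomial.X_ne_zero)
    let i : Bt →ₐ[K] RatFunc F := IsLocalization.liftAlgHom (M := Submonoid.powers ((Polynomial.X : Polynomial B) ^ ex m)) (f := e) hne
    have hi : Function.Injective i := by
      show Function.Injective (IsLocalization.lift (S := Bt) hne)
      refine (IsLocalization.lift_injective_iff _).2 fun x y => ⟨fun hxy => ?_, fun hxy => ?_⟩
      · obtain ⟨c, hc⟩ := (IsLocalization.eq_iff_exists (Submonoid.powers ((Polynomial.X : Polynomial B) ^ ex m)) Bt).1 hxy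
        exact (hne c).mul_left_cancel ((map_mul e _ _).symm.trans ((congrArg e hc).trans (map_mul e _ _)))
      · exact congrArg _ (he hxy)
    have hit : i t = RatFunc.X := (IsLocalization.lift_eq _ _).trans (by simp [e])
    have hic : i.comp cB = (cst F).comp g := AlgHom.ext fun x =>
      (IsLocalization.lift_eq _ _).trans (by
        show e (algebraMap B (Polynomial B) x) = RatFunc.C (g x)
        simp [e])
    have hgx : sp g ≫ xU = xGen X := Over.OverMorphism.ext (by
      have hη : genericPoint X.left ∈ U := ((genericPoint_spec X.left).mem_open_set_iff U.2).mpr (by simpa using ‹Nonempty U›)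
      exact hU.fromSpecStalk_eq_fromSpecStalk hη)
    have hagree : sp i ≫ act' a (cd.pt t ht) (sp cB ≫ xU) = sp i ≫ sp cB ≫ xU := by
      rw [comp_act', cd.sp_pt, cd.pt_congr hit, ← Category.assoc, sp_comp, hic, ← sp_comp g, Category.assoc, hgx]
      exact h _
    haveI : IsDomain Bt := hi.isDomain
    haveI : IsReduced (specK (K := K) Bt).left := inferInstanceAs (IsReduced (Spec (CommRingCat.of Bt)))
    haveI : IsDominant (sp i).left := ⟨(PrimeSpectrum.denseRange_comap_iff_ker_le_nilRadical _).2 (by
      show RingHom.ker i.toRingHom ≤ _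
      rw [(RingHom.injective_iff_ker_eq_bot i.toRingHom).1 hi]; exact bot_le)⟩
    exact Over.OverMorphism.ext (ext_of_isDominant_of_isSeparated X.hom
      ((Over.w (act' a (cd.pt t ht) (sp cB ≫ xU))).trans (Over.w (sp cB ≫ xU)).symm)
      (sp i).left (congrArg (fun f => f.left) hagree))
  -- the classifying map
  have hr : Set.range (j ≫ snd G X).left ⊆ Set.range hU.fromSpec := by
    rw [hU.range_fromSpec]
    rintro _ ⟨q, rfl⟩
    exact (q : W).2
  let y : T' ⟶ specK (K := K) B := Over.homMk (IsOpenImmersion.lift hU.fromSpec (j ≫ snd G X).left hr) (by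
    show IsOpenImmersion.lift hU.fromSpec (j ≫ snd G X).left hr ≫ Spec.map (CommRingCat.ofHom (uStr X U hU)) = _
    rw [show Spec.map (CommRingCat.ofHom (uStr X U hU)) = hU.fromSpec ≫ X.hom from Spec.map_preimage _,
      IsOpenImmersion.lift_fac_assoc]
    exact Over.w (j ≫ snd G X))
  have hy : y ≫ xU = j ≫ snd G X := Over.OverMorphism.ext (IsOpenImmersion.lift_fac _ _ _)
  let b := cd.fn (j ≫ fst G X)
  let ψB : B →+* Γ(T'.left, ⊤) := y.left.appTop.hom.comp (fnB (K := K) B)
  let ψ₀ : Polynomial B →+* Γ(T'.left, ⊤) := Polynomial.eval₂RingHom ψB b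
  have hu : ∀ z : Submonoid.powers ((Polynomial.X : Polynomial B) ^ ex m), IsUnit (ψ₀ z) := by
    rintro ⟨_, n, rfl⟩
    rw [map_pow, map_pow]
    simp only [ψ₀, Polynomial.coe_eval₂RingHom, Polynomial.eval₂_X]
    exact (cd.fn_unit _).pow n
  let ψ : Bt →+* Γ(T'.left, ⊤) := IsLocalization.lift hu
  have hψc : ∀ x, ψ (cB x) = ψB x := fun x => (IsLocalization.lift_eq hu _).trans (by simp [ψ₀])
  have hψ : ψ.comp (algebraMap K Bt) = sc T' := RingHom.ext fun x => by
    rw [RingHom.comp_apply, ← cB.commutes x, hψc]
    show y.left.appTop (fnB (K := K) B (algebraMap K B x)) = _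
    rw [fnB_algebraMap, appTop_sc]
  let Ψ := toP ψ hψ
  have h1 : Ψ ≫ cd.pt t ht = j ≫ fst G X := cd.fn_inj (by
    rw [cd.fn_comp, cd.fn_pt, toP_appTop]
    exact (IsLocalization.lift_eq hu _).trans (by simp [ψ₀, b]))
  have h2 : Ψ ≫ sp cB = y := hom_ext_specK fun x => by
    rw [Over.comp_left, Scheme.Hom.comp_appTop, ConcreteCategory.comp_apply, sp_appTop, toP_appTop, hψc]
    rfl
  have h3 : Ψ ≫ lift (cd.pt t ht) (sp cB ≫ xU) = j := by
    refine CartesianMonoidalCategory.hom_ext _ _ ?_ ?_
    · rw [Category.assoc, lift_fst, h1]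
    · rw [Category.assoc, lift_snd, ← Category.assoc, h2, hy]
  calc j ≫ a.act = Ψ ≫ act' a (cd.pt t ht) (sp cB ≫ xU) := by rw [act', ← Category.assoc, h3]
    _ = Ψ ≫ sp cB ≫ xU := by rw [huniv]
    _ = j ≫ snd G X := by rw [← Category.assoc, h2, hy]

end Triv

/-! ### Birational models -/

section Model

theorem birationalOver_spec (X : Over (Spec (CommRingCat.of K))) [IsIntegral X.left] [LocallyOfFiniteType X.hom]
    (P : Type u) [CommRing P] [IsDomain P] [Algebra K P] [Algebra.FiniteType K P]
    [Algebra P X.left.functionField] [IsFractionRing P X.left.functionField]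
    (hP : (algebraMap P X.left.functionField).comp (algebraMap K P) = fStr X) :
    Scheme.BirationalOver X.hom (Spec.map (CommRingCat.ofHom (algebraMap K P))) := by
  let Y := Spec (CommRingCat.of P)
  let sY : Y ⟶ Spec (CommRingCat.of K) := Spec.map (CommRingCat.ofHom (algebraMap K P))
  haveI : LocallyOfFiniteType sY :=
    (HasRingHomProperty.Spec_iff (P := @LocallyOfFiniteType)).2 (RingHom.finiteType_algebraMap.2 ‹_›)
  haveI : IsDomain (CommRingCat.of P) := ‹IsDomain P›
  haveI : IsIntegral Y := inferInstanceAs (IsIntegral (Spec (CommRingCat.of P)))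
  letI : Algebra P Y.functionField := instAlgebraCarrierFunctionFieldSpec (CommRingCat.of P)
  haveI : IsFractionRing P Y.functionField := functionField_isFractionRing_of_affine (CommRingCat.of P)
  let E : X.left.functionField ≃ₐ[P] Y.functionField :=
    IsLocalization.algEquiv (nonZeroDivisors P) X.left.functionField Y.functionField
  let e : X.left.presheaf.stalk (genericPoint X.left) ≅ Y.presheaf.stalk (genericPoint Y) :=
    E.toRingEquiv.toCommRingCatIso
  have hEX : (X.left.fromSpecStalk (genericPoint X.left)) ≫ X.hom =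
      Spec.map (CommRingCat.ofHom (fStr X)) := (Spec.map_preimage _).symm
  have key : Spec.map e.hom ≫ X.left.fromSpecStalk _ ≫ X.hom = Y.fromSpecStalk _ ≫ sY := by
    rw [hEX, Scheme.Spec_fromSpecStalk, ← Spec.map_comp, ← Spec.map_comp, ← hP]
    congr 1
    ext x
    exact E.commutes _
  have hs : X.hom (genericPoint X.left) = sY (genericPoint Y) := Subsingleton.elim _ _
  refine SpreadOutFP.birationalOver_of_stalk_iso X.hom sY
    (fun φ h => spread_out_of_isGermInjective' X.hom sY φ h)
    (fun φ h => spread_out_of_isGermInjective' sY X.hom φ h) hs e ?_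
  apply Spec.map_injective
  rw [← cancel_mono ((Spec (CommRingCat.of K)).fromSpecStalk _), Spec.map_comp, Spec.map_comp, Category.assoc,
    Category.assoc, Scheme.SpecMap_stalkMap_fromSpecStalk, key, SpreadOutFP.SpecMap_eqToHom_fromSpecStalk hs,
    Scheme.SpecMap_stalkMap_fromSpecStalk]

theorem cylinder (X : Over (Spec (CommRingCat.of K))) [IsIntegral X.left] [LocallyOfFiniteType X.hom]
    (F₀ : Subfield X.left.functionField) (hK : ∀ x, fStr X x ∈ F₀)
    (s : X.left.functionField) (hs : Transcendental F₀ s) (htop : IntermediateField.adjoin F₀ {s} = ⊤) :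
    ∃ (Y : Over (Spec (CommRingCat.of K))) (_ : IsIntegral Y.left) (_ : LocallyOfFiniteType Y.hom)
      (U : X.left.Opens) (V : (𝔸(ULift.{u} (Fin 1); Y.left)).Opens), (U : Set X.left).Nonempty ∧
      Nonempty (Over.mk (U.ι ≫ X.hom) ≅
        Over.mk (V.ι ≫ (𝔸(ULift.{u} (Fin 1); Y.left) ↘ Y.left) ≫ Y.hom)) := by
  classical
  let F := X.left.functionField
  letI := fAlg X
  obtain ⟨_, ⟨U, hU, rfl⟩, hxU, -⟩ :=
    X.left.isBasis_affineOpens.exists_subset_of_mem_open (Set.mem_univ (genericPoint X.left)) isOpen_univ
  haveI : Nonempty U := ⟨⟨_, hxU⟩⟩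
  let B := Γ(X.left, U)
  letI : Algebra K B := (uStr X U hU).toAlgebra
  haveI : IsScalarTower K B F := IsScalarTower.of_algebraMap_eq fun x => (RingHom.congr_fun (germ_uStr X U hU) x).symm
  haveI : IsFractionRing B F := functionField_isFractionRing_of_isAffineOpen X.left U hU
  haveI : Algebra.FiniteType K B := by
    have h1 : LocallyOfFiniteType (Spec.map (Spec.preimage (hU.fromSpec ≫ X.hom))) := by
      rw [Spec.map_preimage]; infer_instance
    exact RingHom.finiteType_algebraMap.1 ((HasRingHomProperty.Spec_iff (P := @LocallyOfFiniteType)).1 h1)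
  obtain ⟨gens, hgens⟩ := ‹Algebra.FiniteType K B›.out
  have hdiv : ∀ f : F, ∃ r q : Polynomial F₀, f = Polynomial.aeval s r / Polynomial.aeval s q := fun f =>
    (IntermediateField.mem_adjoin_simple_iff F₀ f).1 (htop ▸ IntermediateField.mem_top)
  choose r q hrq using hdiv
  let coefs : Finset F := gens.biUnion fun g =>
    ((r (algebraMap B F g)).coeffs ∪ (q (algebraMap B F g)).coeffs).image fun c : F₀ => (c : F)
  let A : Subalgebra K F := Algebra.adjoin K (coefs : Set F)
  let F₀' : Subalgebra K F := { F₀.toSubring.toSubsemiring with algebraMap_mem' := hK }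
  have hAle : A ≤ F₀' := Algebra.adjoin_le fun c hc => by
    simp only [coefs, Finset.coe_biUnion, Set.mem_iUnion, Finset.coe_image, Set.mem_image] at hc
    obtain ⟨_, _, d, _, rfl⟩ := hc
    exact d.2
  haveI : Algebra.FiniteType K A := ⟨(Subalgebra.fg_top A).2 ⟨coefs, rfl⟩⟩
  let n := ULift.{u} (Fin 1)
  let P := MvPolynomial n A
  let φ : P →ₐ[A] F := MvPolynomial.aeval fun _ => s
  letI : Algebra P F := φ.toRingHom.toAlgebra
  let inA : A →+* F₀ := (Subring.inclusion (show A.toSubring ≤ F₀.toSubring from hAle))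
  have hφ : Function.Injective φ := by
    rw [injective_iff_map_eq_zero]
    intro p hp
    let u := MvPolynomial.uniqueAlgEquiv A n
    have h1 : φ.comp u.symm.toAlgHom = Polynomial.aeval s := Polynomial.algHom_ext (by
      rw [Polynomial.aeval_X]
      show φ (u.symm Polynomial.X) = s
      simp [u]
      exact MvPolynomial.aeval_X _ _)
    have h2 : Polynomial.aeval s ((u p).map inA) = 0 := by
      rw [Polynomial.aeval_def, Polynomial.eval₂_map]
      have h3 := AlgHom.congr_fun h1 (u p)
      rw [AlgHom.comp_apply, AlgEquiv.toAlgHom_apply, AlgEquiv.symm_apply_apply, hp] at h3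
      exact h3.symm
    have h4 := (transcendental_iff.1 hs) _ h2
    rw [Polynomial.map_eq_zero_iff (Subring.inclusion_injective _), map_eq_zero_iff u u.injective] at h4
    exact h4
  haveI : FaithfulSMul P F := (faithfulSMul_iff_algebraMap_injective P F).2 hφ
  have hpoly : ∀ (p : Polynomial F₀), (∀ c ∈ p.coeffs, (c : F) ∈ coefs) → Polynomial.aeval s p ∈ φ.range := by
    intro p hp
    rw [Polynomial.aeval_def, Polynomial.eval₂_eq_sum, Polynomial.sum]
    refine sum_mem fun i hi => ?_
    refine mul_mem ?_ (pow_mem (⟨MvPolynomial.X (ULift.up 0 : n), MvPolynomial.aeval_X _ _⟩ : s ∈ φ.range) i)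
    have hc := hp _ (Polynomial.coeff_mem_coeffs (Polynomial.mem_support_iff.1 hi))
    exact ⟨MvPolynomial.C (⟨_, Algebra.subset_adjoin hc⟩ : A), MvPolynomial.aeval_C _ _⟩
  let L : Subfield F := Subfield.closure (Set.range φ)
  have hgen : ∀ g ∈ gens, algebraMap B F g ∈ L := fun g hg => by
    rw [hrq (algebraMap B F g)]
    refine div_mem (Subfield.subset_closure (hpoly _ fun c hc => ?_)) (Subfield.subset_closure (hpoly _ fun c hc => ?_)) <;>
      exact Finset.mem_biUnion.2 ⟨g, hg, Finset.mem_image_of_mem _ (by simp [hc])⟩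
  have hL : ∀ x : F, x ∈ L := fun x => by
    obtain ⟨b, c, -, rfl⟩ := IsFractionRing.div_surjective (A := B) x
    have hB : ∀ b : B, algebraMap B F b ∈ L := fun b => by
      have hb : b ∈ Algebra.adjoin K (gens : Set B) := hgens ▸ Algebra.mem_top
      induction hb using Algebra.adjoin_induction with
      | mem g hg => exact hgen g hg
      | algebraMap k =>
        rw [← IsScalarTower.algebraMap_apply]
        exact Subfield.subset_closure ⟨MvPolynomial.C (algebraMap K A k), MvPolynomial.aeval_C _ _⟩
      | add x y _ _ hx hy => rw [map_add]; exact add_mem hx hy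
      | mul x y _ _ hx hy => rw [map_mul]; exact mul_mem hx hy
    exact div_mem (hB b) (hB c)
  haveI : IsFractionRing P F := IsFractionRing.of_field P F fun z => by
    obtain ⟨y, hy, w, hw, rfl⟩ := Subfield.mem_closure_iff.1 (hL z)
    have hr : Subring.closure (Set.range φ) ≤ φ.toRingHom.range := Subring.closure_le.2 fun _ h => h
    obtain ⟨y', rfl⟩ := hr hy
    obtain ⟨w', rfl⟩ := hr hw
    exact ⟨y', w', rfl⟩
  haveI : Algebra.FiniteType K P := Algebra.FiniteType.trans (inferInstance : Algebra.FiniteType K A) inferInstance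
  have hPK : (algebraMap P F).comp (algebraMap K P) = fStr X := RingHom.ext fun k => by
    show φ (algebraMap K P k) = _
    rw [IsScalarTower.algebraMap_apply K A P, AlgHom.commutes]
    rfl
  have hb := birationalOver_spec X P hPK
  let R := CommRingCat.of A
  let Y : Over (Spec (CommRingCat.of K)) := Over.mk (Spec.map (CommRingCat.ofHom (algebraMap K A) : CommRingCat.of K ⟶ R))
  haveI : IsIntegral Y.left := inferInstanceAs (IsIntegral (Spec R))
  haveI : LocallyOfFiniteType Y.hom :=
    (HasRingHomProperty.Spec_iff (P := @LocallyOfFiniteType)).2 (RingHom.finiteType_algebraMap.2 ‹Algebra.FiniteType K A›)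
  have hiso : (AffineSpace.SpecIso n R).inv ≫ (𝔸(n; Spec R) ↘ Spec R) ≫ Y.hom = Spec.map (CommRingCat.ofHom (algebraMap K P)) := by
    rw [← Category.assoc, AffineSpace.SpecIso_inv_over]
    exact (Spec.map_comp _ _).symm
  have hb' : Scheme.BirationalOver X.hom ((𝔸(n; Spec R) ↘ Spec R) ≫ Y.hom) :=
    hb.trans (Scheme.Hom.birationalOver (AffineSpace.SpecIso n R).inv _ _ hiso)
  obtain ⟨f, hf⟩ := hb'
  exact ⟨Y, inferInstance, inferInstance, f.source, f.target, f.dense_source.nonempty, ⟨Over.isoMk f.iso hf⟩⟩

end Model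

end Groth.Agent.CylLib
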